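import Cfsg.Agent.SpGeom.Basic

/-!
# Symplectic transvections and Eichler elements for the slim amalgam
-/

set_option autoImplicit false

namespace CfsgLib.Chev.SpSlim

open Matrix CfsgLib.SpGeom

universe u

variable {F : Type u} [Field F] {n : ℕ}

local notation "V" => (Fin n ⊕ Fin n → F)
local notation "Sp" => Matrix.symplecticGroup (Fin n) F

/-- The action on column vectors. -/
def ap (A : Matrix.symplecticGroup (Fin n) F) (x : Fin n ⊕ Fin n → F) : Fin n ⊕ Fin n → F :=
  (A : Matrix (Fin n ⊕ Fin n) (Fin n ⊕ Fin n) F) *ᵥ x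

theorem ap_mul (A B : Sp) (x : V) : ap (A * B) x = ap A (ap B x) := by
  rw [ap, ap, ap, Matrix.mulVec_mulVec]
  rfl

theorem ap_one (x : V) : ap (1 : Sp) x = x := Matrix.one_mulVec x

theorem ap_add (A : Sp) (x y : V) : ap A (x + y) = ap A x + ap A y := Matrix.mulVec_add _ _ _

theorem ap_smul (A : Sp) (c : F) (x : V) : ap A (c • x) = c • ap A x := Matrix.mulVec_smul _ _ _

theorem ap_zero (A : Sp) : ap A (0 : V) = 0 := Matrix.mulVec_zero _

theorem ap_neg (A : Sp) (x : V) : ap A (-x) = -ap A x := Matrix.mulVec_neg _ _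

theorem ext_ap {A B : Sp} (h : ∀ x, ap A x = ap B x) : A = B := ext_mulVec h

theorem ap_inv_left (A : Sp) (x : V) : ap A⁻¹ (ap A x) = x := inv_mulVec A x

theorem ap_inv_of (A : Sp) {x y : V} (h : ap A x = y) : ap A⁻¹ y = x := by rw [← h, ap_inv_left]

/-- The form, oriented so that `bo (eV k) (fV k) = 1`. -/
def bo (x y : Fin n ⊕ Fin n → F) : F := Cfsg.sympForm n F y x

theorem bo_self (x : V) : bo x x = 0 := form_self x
theorem bo_skew (x y : V) : bo y x = -bo x y := form_skew y x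
theorem bo_add_left (x x' y : V) : bo (x + x') y = bo x y + bo x' y := form_add_right _ _ _
theorem bo_add_right (x y y' : V) : bo x (y + y') = bo x y + bo x y' := form_add_left _ _ _
theorem bo_sub_left (x x' y : V) : bo (x - x') y = bo x y - bo x' y := form_sub_right _ _ _
theorem bo_sub_right (x y y' : V) : bo x (y - y') = bo x y - bo x y' := form_sub_left _ _ _
theorem bo_smul_left (a : F) (x y : V) : bo (a • x) y = a * bo x y := form_smul_right _ _ _
theorem bo_smul_right (a : F) (x y : V) : bo x (a • y) = a * bo x y := form_smul_left _ _ _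
theorem bo_zero_left (y : V) : bo 0 y = 0 := form_zero_right y
theorem bo_zero_right (y : V) : bo y 0 = 0 := form_zero_left y
theorem bo_neg_left (x y : V) : bo (-x) y = -bo x y := by
  rw [← neg_one_smul F x, bo_smul_left, neg_one_mul]
theorem bo_neg_right (x y : V) : bo x (-y) = -bo x y := by
  rw [← neg_one_smul F y, bo_smul_right, neg_one_mul]
theorem bo_ap (A : Sp) (x y : V) : bo (ap A x) (ap A y) = bo x y := form_mulVec A y x

/-- The vector `e_k`. -/
def eV (k : Fin n) : Fin n ⊕ Fin n → F := Pi.single (Sum.inl k) 1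

/-- The vector `f_k`. -/
def fV (k : Fin n) : Fin n ⊕ Fin n → F := Pi.single (Sum.inr k) 1

theorem bo_fV_right (x : V) (k : Fin n) : bo x (fV k) = x (.inl k) := by
  rw [bo_skew, bo, fV, form_single_inr_right, neg_neg]

theorem bo_eV_right (x : V) (k : Fin n) : bo x (eV k) = -x (.inr k) := by
  rw [bo_skew, bo, eV, form_single_inl_right]

theorem bo_eV_fV (k : Fin n) : bo (eV k : V) (fV k) = 1 := by simp [bo_fV_right, eV]

theorem ap_tv (v : V) (c : F) (x : V) : ap (tv v c) x = x + (c * bo v x) • v := tv_mulVec v c x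

theorem ap_tv_fix (v : V) (c : F) {x : V} (h : bo v x = 0) : ap (tv v c) x = x := by
  simp [ap_tv, h]

theorem tv_conj' (A : Sp) (v : V) (c : F) : A * tv v c * A⁻¹ = tv (ap A v) c := tv_conj A v c

theorem tv_neg' (v : V) (c : F) : tv (-v) c = tv v c := by
  rw [← neg_one_smul F v, tv_smul]; simp

theorem tv_vec_zero (c : F) : tv (0 : V) c = 1 := by
  refine ext_ap fun x => ?_
  simp [ap_tv, ap_one]

/-- The Eichler element of an orthogonal pair. -/
def Eich (a b : Fin n ⊕ Fin n → F) : Matrix.symplecticGroup (Fin n) F :=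
  tv (a + b) 1 * tv a (-1) * tv b (-1)

theorem Eich_conj (A : Sp) (a b : V) : A * Eich a b * A⁻¹ = Eich (ap A a) (ap A b) := by
  rw [Eich, Eich, ← ap_add, ← tv_conj', ← tv_conj', ← tv_conj']
  group

theorem ap_Eich {a b : V} (h : bo a b = 0) (x : V) :
    ap (Eich a b) x = x + bo a x • b + bo b x • a := by
  have h' : bo b a = 0 := by rw [bo_skew, h, neg_zero]
  simp only [Eich, ap_mul, ap_tv, bo_add_left, bo_add_right, bo_smul_right, bo_self, h, h']
  module

theorem Eich_comm (a b : V) (h : bo a b = 0) : Eich a b = Eich b a := by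
  refine ext_ap fun x => ?_
  rw [ap_Eich h, ap_Eich (by rw [bo_skew, h, neg_zero])]
  abel

theorem Eich_zero (a : V) : Eich a 0 = 1 := by
  refine ext_ap fun x => ?_
  simp [ap_Eich (bo_zero_right a), ap_one, bo_zero_left]

theorem Eich_zero_left (a : V) : Eich 0 a = 1 := by
  refine ext_ap fun x => ?_
  simp [ap_Eich (bo_zero_left a), ap_one, bo_zero_left]

theorem Eich_add {a v w : V} (hv : bo a v = 0) (hw : bo a w = 0) :
    Eich a v * Eich a w = Eich a (v + w) * tv a (bo v w) := by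
  refine ext_ap fun x => ?_
  have hav : bo a (v + w) = 0 := by rw [bo_add_right, hv, hw, add_zero]
  have hv' : bo v a = 0 := by rw [bo_skew, hv, neg_zero]
  have hw' : bo w a = 0 := by rw [bo_skew, hw, neg_zero]
  simp only [ap_mul, ap_Eich hv, ap_Eich hw, ap_Eich hav, ap_tv, bo_add_right, bo_add_left,
    bo_smul_right, bo_self, hv, hw, hv', hw']
  module

theorem Eich_add_left {v a b : V} (ha : bo a v = 0) (hb : bo b v = 0) :
    Eich a v * Eich b v = Eich (a + b) v * tv v (bo a b) := by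
  have hav : bo (a + b) v = 0 := by rw [bo_add_left, ha, hb, add_zero]
  rw [Eich_comm a v ha, Eich_comm b v hb, Eich_comm _ v hav]
  exact Eich_add (by rw [bo_skew, ha, neg_zero]) (by rw [bo_skew, hb, neg_zero])

theorem Eich_inv {a v : V} (hv : bo a v = 0) : (Eich a v)⁻¹ = Eich a (-v) :=
  inv_eq_of_mul_eq_one_right (by
    rw [Eich_add hv (by rw [bo_neg_right, hv, neg_zero]), add_neg_cancel, Eich_zero, bo_neg_right,
      bo_self, neg_zero, tv_zero, one_mul])

theorem Eich_smul {a v : V} (hv : bo a v = 0) (s : F) : Eich (s • a) v = Eich a (s • v) := by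
  refine ext_ap fun x => ?_
  rw [ap_Eich (by rw [bo_smul_left, hv, mul_zero]), ap_Eich (by rw [bo_smul_right, hv, mul_zero])]
  simp only [bo_smul_left]
  module

theorem ap_Eich_fix {a b x : V} (h : bo a b = 0) (ha : bo a x = 0) (hb : bo b x = 0) :
    ap (Eich a b) x = x := by
  simp [ap_Eich h, ha, hb]

/-- The elements fixing the hyperbolic pairs of index at least `m`. -/
def lev (n : ℕ) (F : Type u) [Field F] (m : ℕ) : Subgroup (Matrix.symplecticGroup (Fin n) F) where
  carrier := {g | ∀ l : Fin n, m ≤ (l : ℕ) → ap g (eV l) = eV l ∧ ap g (fV l) = fV l}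
  one_mem' l _ := ⟨ap_one _, ap_one _⟩
  mul_mem' {a b} ha hb l hl := by
    rw [ap_mul, ap_mul, (hb l hl).1, (hb l hl).2]; exact ha l hl
  inv_mem' {a} ha l hl := ⟨ap_inv_of a (ha l hl).1, ap_inv_of a (ha l hl).2⟩

theorem mem_lev {m : ℕ} {g : Sp} :
    g ∈ lev n F m ↔ ∀ l : Fin n, m ≤ (l : ℕ) → ap g (eV l) = eV l ∧ ap g (fV l) = fV l := Iff.rfl

/-- The span of the first `m` hyperbolic pairs. -/
def headSub (n : ℕ) (F : Type u) [Field F] (m : ℕ) : Submodule F (Fin n ⊕ Fin n → F) where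
  carrier := {x | ∀ l : Fin n, m ≤ (l : ℕ) → x (.inl l) = 0 ∧ x (.inr l) = 0}
  add_mem' {a b} ha hb l hl := by simp [ha l hl, hb l hl]
  zero_mem' l _ := ⟨rfl, rfl⟩
  smul_mem' c x hx l hl := by simp [hx l hl]

theorem mem_headSub {m : ℕ} {x : V} :
    x ∈ headSub n F m ↔ ∀ l : Fin n, m ≤ (l : ℕ) → x (.inl l) = 0 ∧ x (.inr l) = 0 := Iff.rfl

theorem eV_mem {m : ℕ} {k : Fin n} (h : (k : ℕ) < m) : (eV k : V) ∈ headSub n F m := fun l hl => by
  have : l ≠ k := fun e => by subst e; omega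
  simp [eV, this]

theorem fV_mem {m : ℕ} {k : Fin n} (h : (k : ℕ) < m) : (fV k : V) ∈ headSub n F m := fun l hl => by
  have : l ≠ k := fun e => by subst e; omega
  simp [fV, this]

theorem headSub_orth {m : ℕ} {k : Fin n} (h : m ≤ (k : ℕ)) {x : V} (hx : x ∈ headSub n F m) :
    bo (eV k) x = 0 ∧ bo (fV k) x = 0 := by
  rw [bo_skew x, bo_skew x, bo_eV_right, bo_fV_right, (hx k h).1, (hx k h).2]
  simp

theorem lev_maps {m : ℕ} {g : Sp} (hg : g ∈ lev n F m) {x : V} (hx : x ∈ headSub n F m) :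
    ap g x ∈ headSub n F m := by
  intro l hl
  obtain ⟨h1, h2⟩ := hg l hl
  constructor
  · rw [← bo_fV_right (ap g x), ← h2, bo_ap, bo_fV_right]; exact (hx l hl).1
  · have e : bo (ap g x) (eV l) = bo x (eV l) := by rw [← h1, bo_ap, h1]
    rw [bo_eV_right, bo_eV_right, (hx l hl).2, neg_inj] at e
    exact e

theorem tv_mem_lev {m : ℕ} {v : V} (hv : v ∈ headSub n F m) (c : F) : tv v c ∈ lev n F m :=
  fun l hl => by
    obtain ⟨h1, h2⟩ := headSub_orth hl hv
    exact ⟨ap_tv_fix _ _ (by rw [bo_skew, h1, neg_zero]), ap_tv_fix _ _ (by rw [bo_skew, h2, neg_zero])⟩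

theorem Eich_mem_lev {m : ℕ} {a b : V} (ha : a ∈ headSub n F m) (hb : b ∈ headSub n F m) :
    Eich a b ∈ lev n F m :=
  mul_mem (mul_mem (tv_mem_lev (add_mem ha hb) _) (tv_mem_lev ha _)) (tv_mem_lev hb _)

theorem tgroup_le_lev (m : ℕ) : tgroup (headSub n F m) ≤ lev n F m := by
  rw [tgroup, Subgroup.closure_le]
  rintro _ ⟨w, hw, c, rfl⟩
  exact tv_mem_lev hw c

theorem nondeg_headSub (m : ℕ) : Nondeg (headSub n F m) := by
  intro u hu hu0
  obtain ⟨i, hi⟩ := Function.ne_iff.1 hu0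
  rcases i with i | i
  · refine ⟨fV i, fV_mem (not_le.1 fun h => hi (hu i h).1), ?_⟩
    rw [fV, form_single_inr_right]; simpa using hi
  · refine ⟨eV i, eV_mem (not_le.1 fun h => hi (hu i h).2), ?_⟩
    rw [eV, form_single_inl_right]; simpa using hi

theorem exists_move_vec {m : ℕ} {v w : V} (hv : v ∈ headSub n F m) (hv0 : v ≠ 0)
    (hw : w ∈ headSub n F m) (hw0 : w ≠ 0) : ∃ g ∈ lev n F m, ap g v = w := by
  obtain ⟨g, hg, h⟩ := exists_move (nondeg_headSub m) hv hv0 hw hw0
  exact ⟨g, tgroup_le_lev m hg, h⟩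

theorem exists_move_hyp {m : ℕ} {v w v' w' : V} (hv : v ∈ headSub n F m) (hw : w ∈ headSub n F m)
    (hv' : v' ∈ headSub n F m) (hw' : w' ∈ headSub n F m) (h : bo v w = 1) (h' : bo v' w' = 1) :
    ∃ g ∈ lev n F m, ap g v = v' ∧ ap g w = w' := by
  obtain ⟨g, hg, h1, h2⟩ := exists_move_pair (nondeg_headSub m) hw hv hw' hv'
    (show Cfsg.sympForm n F w v = 1 from h) (show Cfsg.sympForm n F w' v' = 1 from h')
  exact ⟨g, tgroup_le_lev m hg, h2, h1⟩

theorem lev_mono {m m' : ℕ} (h : m ≤ m') : lev n F m ≤ lev n F m' :=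
  fun _ hg l hl => hg l (h.trans hl)

theorem headSub_mono {m m' : ℕ} (h : m ≤ m') : headSub n F m ≤ headSub n F m' :=
  fun _ hg l hl => hg l (h.trans hl)

theorem lev_top {m : ℕ} (h : n ≤ m) : lev n F m = ⊤ :=
  eq_top_iff.2 fun _ _ l hl => absurd (lt_of_lt_of_le l.isLt (h.trans hl)) (lt_irrefl _)

theorem lev_zero : lev n F 0 = ⊥ := by
  refine eq_bot_iff.2 fun g hg => Subgroup.mem_bot.2 (Subtype.ext (Matrix.ext_of_mulVec_single fun j => ?_))
  rcases j with j | j
  · exact ((hg j (Nat.zero_le _)).1).trans (Matrix.one_mulVec _).symm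
  · exact ((hg j (Nat.zero_le _)).2).trans (Matrix.one_mulVec _).symm

theorem lev_pred {k : Fin n} {g : Sp} (hg : g ∈ lev n F ((k : ℕ) + 1)) (h1 : ap g (eV k) = eV k)
    (h2 : ap g (fV k) = fV k) : g ∈ lev n F (k : ℕ) := by
  intro l hl
  rcases hl.eq_or_lt with h | h
  · obtain rfl : k = l := Fin.ext h
    exact ⟨h1, h2⟩
  · exact hg l h

theorem headSub_split {k : Fin n} {x : V} (hx : x ∈ headSub n F ((k : ℕ) + 1)) :
    x - bo x (fV k) • eV k - bo (eV k) x • fV k ∈ headSub n F (k : ℕ) := by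
  intro l hl
  rw [bo_skew x (eV k), bo_fV_right, bo_eV_right, neg_neg]
  rcases hl.eq_or_lt with h | h
  · obtain rfl : k = l := Fin.ext h
    simp [eV, fV]
  · have hne : l ≠ k := fun e => by subst e; omega
    obtain ⟨a, b⟩ := hx l h
    simp [eV, fV, hne, a, b]

/-- A subgroup of pairs in which the second entry is determined by the first. -/
def IsGraph {A : Type*} {B : Type*} [Group A] [Group B] (Γ : Subgroup (A × B)) : Prop :=
  ∀ x ∈ Γ, x.1 = 1 → x.2 = 1

theorem IsGraph.eq {A : Type*} {B : Type*} [Group A] [Group B] {Γ : Subgroup (A × B)} (h : IsGraph Γ)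
    {x y : A × B} (hx : x ∈ Γ) (hy : y ∈ Γ) (e : x.1 = y.1) : x = y := by
  refine Prod.ext e ?_
  have := h _ (mul_mem (inv_mem hx) hy) (by rw [Prod.fst_mul, Prod.fst_inv, e, inv_mul_cancel])
  rw [Prod.snd_mul, Prod.snd_inv] at this
  exact inv_mul_eq_one.1 this

theorem IsGraph.comm {A : Type*} {B : Type*} [Group A] [Group B] {Γ : Subgroup (A × B)} (h : IsGraph Γ)
    {x y : A × B} (hx : x ∈ Γ) (hy : y ∈ Γ) (e : x.1 * y.1 = y.1 * x.1) : x * y = y * x :=
  h.eq (mul_mem hx hy) (mul_mem hy hx) e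

end CfsgLib.Chev.SpSlim
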